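import Groth.Agent.Lib.CokerProj.Basic
import Mathlib

/-!
# Generalized inverses, localization and fibres
-/

universe u v w

open TensorProduct

namespace GrothLib.CokerLocal

open GrothLib.CokerProj

variable {R : Type u} [CommRing R] {M : Type v} {N : Type w} [AddCommGroup M] [Module R M]
  [AddCommGroup N] [Module R N] (d : M →ₗ[R] N) (S : Submonoid R)

theorem projective_localized [Module.Projective R N] (f : S) (hd : GenInv d (f : R)) :
    Module.Projective (Localization S) (LocalizedModule S (N ⧸ LinearMap.range d)) := by
  obtain ⟨h, hh⟩ := hd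
  let q := (LinearMap.range d).mkQ
  let s : (N ⧸ LinearMap.range d) →ₗ[R] N :=
    (LinearMap.range d).liftQ ((f : R) • LinearMap.id - d ∘ₗ h) (by
      rintro _ ⟨x, rfl⟩
      simp [hh])
  have hs : q ∘ₗ s = (f : R) • LinearMap.id := LinearMap.ext fun c => by
    obtain ⟨y, rfl⟩ := Submodule.Quotient.mk_surjective _ c
    change q ((f : R) • y - d (h y)) = (f : R) • Submodule.Quotient.mk y
    rw [map_sub, map_smul, Submodule.mkQ_apply, Submodule.mkQ_apply,
      (Submodule.Quotient.mk_eq_zero _).2 (LinearMap.mem_range_self d (h y)), sub_zero]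
  refine Module.Projective.of_split (Localization.mk 1 f • LocalizedModule.map S s)
    (LocalizedModule.map S q) (LinearMap.ext fun x => ?_)
  induction x using LocalizedModule.induction_on with
  | h c t =>
    have := LinearMap.congr_fun hs c
    simp only [LinearMap.comp_apply, LinearMap.smul_apply, LinearMap.id_apply, LocalizedModule.map_mk,
      map_smul, LocalizedModule.mk_smul_mk, one_smul] at this ⊢
    rw [this]
    exact LocalizedModule.mk_cancel_common_left f t c

theorem genInv_of_projective_localized [Module.Finite R M] [Module.Finite R N] [Module.Projective R N]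
    [Module.Projective (Localization S) (LocalizedModule S (N ⧸ LinearMap.range d))] :
    ∃ g ∈ S, GenInv d g := by
  haveI : Module.FinitePresentation R N := Module.finitePresentation_of_projective R N
  haveI : Module.FinitePresentation R (N ⧸ LinearMap.range d) :=
    Module.finitePresentation_of_surjective _ (Submodule.mkQ_surjective _)
      (by rw [Submodule.ker_mkQ]; exact Module.Finite.iff_fg.1 inferInstance)
  let q := (LinearMap.range d).mkQ
  obtain ⟨σ, hσ⟩ := Module.projective_lifting_property (LocalizedModule.map S q) LinearMap.id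
    (LocalizedModule.map_surjective S q (Submodule.mkQ_surjective _))
  obtain ⟨s, a, hs⟩ := Module.FinitePresentation.exists_lift_of_isLocalizedModule S
    (LocalizedModule.mkLinearMap S N) ((σ.restrictScalars R) ∘ₗ LocalizedModule.mkLinearMap S _)
  have key : LocalizedModule.mkLinearMap S _ ∘ₗ (q ∘ₗ s) =
      LocalizedModule.mkLinearMap S (N ⧸ LinearMap.range d) ∘ₗ ((a : R) • LinearMap.id) := by
    ext y
    have h1 := LinearMap.congr_fun hs (q y)
    have h2 : ∀ z, LocalizedModule.mkLinearMap S (N ⧸ LinearMap.range d) (q z) =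
        LocalizedModule.map S q (LocalizedModule.mkLinearMap S N z) := fun z => by
      simp [LocalizedModule.mkLinearMap_apply, LocalizedModule.map_mk]
    have h3 := LinearMap.congr_fun hσ (LocalizedModule.mkLinearMap S _ (q y))
    simp only [LinearMap.comp_apply, LinearMap.id_apply] at h3
    simp only [LinearMap.comp_apply, LinearMap.smul_apply, LinearMap.id_apply, Submonoid.smul_def,
      LinearMap.restrictScalars_apply] at h1 ⊢
    change LocalizedModule.mkLinearMap S _ (q (s (q y))) = _
    rw [h2, h1, LinearMap.map_smul_of_tower, h3, map_smul]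
  obtain ⟨b, hb⟩ := Module.Finite.exists_smul_of_comp_eq_of_isLocalizedModule S
    (LocalizedModule.mkLinearMap S _) _ _ key
  refine ⟨(b : R) * a, mul_mem b.2 a.2, genInv_of_section d _ ((b : R) • s) fun c => ?_⟩
  have := LinearMap.congr_fun hb c
  simp only [Submonoid.smul_def, LinearMap.smul_apply, LinearMap.comp_apply, LinearMap.id_apply] at this
  rw [LinearMap.smul_apply, map_smul, this, mul_smul]

/-- With a generalized inverse up to a scalar that becomes a unit, the formation of the kernel
commutes with tensoring. -/
theorem exact_of_genInv (V : Type*) [AddCommGroup V] [Module R V] (f : R)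
    (hf : Function.Bijective fun v : V => f • v) (hd : GenInv d f) :
    Function.Exact (LinearMap.lTensor V (LinearMap.ker d).subtype) (LinearMap.lTensor V d) ∧
      Function.Injective (LinearMap.lTensor V (LinearMap.ker d).subtype) := by
  obtain ⟨h, hh⟩ := hd
  let e : M →ₗ[R] LinearMap.ker d := LinearMap.codRestrict _ (f • LinearMap.id - h ∘ₗ d) fun x => by
    simp [hh]
  let ι := LinearMap.ker d
  let u := LinearEquiv.ofBijective (LinearMap.lsmul R V f) hf
  have hu : ∀ (L : Type v) [AddCommGroup L] [Module R L] (z : V ⊗[R] L),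
      (u.symm.toLinearMap.rTensor L) (f • z) = z := by
    intro L _ _ z
    induction z using TensorProduct.induction_on with
    | zero => simp
    | tmul a b =>
      rw [TensorProduct.smul_tmul', LinearMap.rTensor_tmul, LinearEquiv.coe_coe]
      congr 1
      exact u.symm_apply_apply a
    | add a b ha hb => rw [smul_add, map_add, ha, hb]
  refine ⟨fun z => ⟨fun hz => ?_, ?_⟩, fun a b hab => ?_⟩
  · refine ⟨u.symm.toLinearMap.rTensor _ (e.lTensor V z), ?_⟩
    have h1 : ι.subtype.lTensor V (e.lTensor V z) = f • z := by
      rw [← LinearMap.comp_apply, ← LinearMap.lTensor_comp,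
        show ι.subtype ∘ₗ e = f • LinearMap.id - h ∘ₗ d from rfl, LinearMap.lTensor_sub,
        LinearMap.lTensor_smul, LinearMap.lTensor_id, LinearMap.lTensor_comp]
      simp [hz]
    rw [← LinearMap.comp_apply, LinearMap.lTensor_comp_rTensor, ← LinearMap.rTensor_comp_lTensor,
      LinearMap.comp_apply, h1]
    exact hu M z
  · rintro ⟨y, rfl⟩
    rw [← LinearMap.comp_apply, ← LinearMap.lTensor_comp,
      show d ∘ₗ ι.subtype = 0 from LinearMap.ext fun y => y.2, LinearMap.lTensor_zero,
      LinearMap.zero_apply]
  · have h2 : e ∘ₗ ι.subtype = f • LinearMap.id := by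
      refine LinearMap.ext fun y => Subtype.ext ?_
      show f • (y : M) - h (d y) = f • (y : M)
      rw [show d (y : M) = 0 from y.2, map_zero, sub_zero]
    have := congrArg (e.lTensor V) hab
    rw [← LinearMap.comp_apply, ← LinearMap.comp_apply, ← LinearMap.lTensor_comp, h2,
      LinearMap.lTensor_smul, LinearMap.lTensor_id, LinearMap.smul_apply, LinearMap.smul_apply,
      LinearMap.id_apply, LinearMap.id_apply] at this
    rw [← hu _ a, ← hu _ b, this]

/-- A map injective on the fibre at `p` has a left inverse up to a scalar outside `p`. -/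
theorem exists_leftInv_of_fibre_injective [Module.Finite R M] [Module.Finite R N] [Module.Projective R M]
    [Module.Projective R N] (p : PrimeSpectrum R)
    (hinj : Function.Injective (d.baseChange p.asIdeal.ResidueField)) :
    ∃ g, g ∉ p.asIdeal ∧ ∃ h : N →ₗ[R] M, h ∘ₗ d = g • LinearMap.id := by
  obtain ⟨f, hf, h, hh⟩ := exists_genInv_of_fibre d p (fun x hx => by
    have : x = 0 := hinj (by rw [map_zero]; exact hx)
    rw [this]; exact zero_mem _)
  let k := p.asIdeal.ResidueField
  let e : Module.End R M := f • LinearMap.id - h ∘ₗ d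
  have hde : d ∘ₗ e = 0 := LinearMap.ext fun x => by simp [e, hh]
  have hek : ∀ x : M, (1 : k) ⊗ₜ[R] e x = 0 := fun x => hinj (by
    rw [map_zero, LinearMap.baseChange_tmul, ← LinearMap.comp_apply, hde, LinearMap.zero_apply,
      TensorProduct.tmul_zero])
  have hrange : LinearMap.range e ≤ p.asIdeal • ⊤ := by
    rintro _ ⟨x, rfl⟩
    -- test against coordinates of a presentation of `M` as a summand of a free module
    obtain ⟨n, π, hπ⟩ := Module.Finite.exists_fin' R M
    obtain ⟨σ, hσ⟩ := Module.projective_lifting_property π LinearMap.id hπ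
    have hx : e x = π (σ (e x)) := (LinearMap.congr_fun hσ (e x)).symm
    rw [hx, pi_eq_sum_univ (σ (e x)), map_sum]
    refine Submodule.sum_mem _ fun i _ => ?_
    rw [map_smul]
    refine Submodule.smul_mem_smul ?_ trivial
    have := congrArg ((TensorProduct.rid R k).toLinearMap ∘ₗ
      (((LinearMap.proj i) ∘ₗ σ).lTensor k)) (hek x)
    simp only [LinearMap.comp_apply, LinearMap.lTensor_tmul, LinearEquiv.coe_coe, TensorProduct.rid_tmul,
      map_zero, LinearMap.proj_apply] at this
    rw [Algebra.smul_def, mul_one] at this
    exact Ideal.algebraMap_residueField_eq_zero.1 this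
  obtain ⟨χ, hχ, -, hcoef, hχ0⟩ :=
    LinearMap.exists_monic_and_natDegree_eq_and_coeff_mem_pow_and_aeval_eq_zero R e p.asIdeal hrange
  refine ⟨χ.eval f, fun hmem => ?_, ?_⟩
  · apply hf
    rw [Polynomial.eval_eq_sum_range, Finset.sum_range_succ, hχ.coeff_natDegree, one_mul] at hmem
    have hlow : ∑ i ∈ Finset.range χ.natDegree, χ.coeff i * f ^ i ∈ p.asIdeal := by
      refine Ideal.sum_mem _ fun i hi => Ideal.mul_mem_right _ _ ?_
      have hpow := hcoef i
      exact Ideal.pow_le_self (by have := Finset.mem_range.1 hi; omega) hpow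
    exact p.2.mem_of_pow_mem _ ((Submodule.add_mem_iff_right _ hlow).1 hmem)
  · -- `χ(f) - χ(e)` is a multiple of `f - e = h ∘ d`
    let F : Module.End R M := algebraMap R (Module.End R M) f
    obtain ⟨c, hc⟩ : ∃ c : Polynomial R, Polynomial.C (χ.eval f) - χ = c * (Polynomial.C f - Polynomial.X) := by
      obtain ⟨c, hc⟩ := Polynomial.X_sub_C_dvd_sub_C_eval (a := f) (p := χ)
      exact ⟨c, by linear_combination -hc⟩
    refine ⟨Polynomial.aeval e c ∘ₗ h, ?_⟩
    have h1 := congrArg (Polynomial.aeval e) hc
    rw [map_sub, map_mul, map_sub, Polynomial.aeval_C, Polynomial.aeval_C, Polynomial.aeval_X, hχ0,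
      sub_zero] at h1
    have h2 : algebraMap R (Module.End R M) f - e = h ∘ₗ d := by
      ext y; simp [e, Module.algebraMap_end_apply]
    rw [h2] at h1
    rw [LinearMap.comp_assoc]
    refine LinearMap.ext fun y => ?_
    have := LinearMap.congr_fun h1 y
    simpa [Module.algebraMap_end_apply, Module.End.mul_apply] using this.symm

end GrothLib.CokerLocal
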